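import Cfsg.Agent.H435.P3.Qd
import Cfsg.Agent.LieExceptional.CITDihedral
import Cfsg.Agent.LieClassical.FieldTransfer
import Cfsg.Agent.Lib.Cores
import Cfsg.Agent.H435.Cases
import Cfsg.Agent.S0483
import Cfsg.Agent.S0507

/-!
# Simple groups with a self-centralizing four-subgroup (helper435)
-/

set_option autoImplicit false

namespace Cfsg.Agent.H435.P3.Klass

open Cfsg Cfsg.Agent.H435 Subgroup
open scoped commutatorElement

theorem perfect {G : Type*} [Group G] [IsSimpleGroup G] (hG : ¬ IsMulCommutative G) : Group.IsPerfect G := by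
  rw [Group.isPerfect_def]
  have hn : (commutator G).Normal := inferInstance
  rcases hn.eq_bot_or_eq_top with h | h
  · exfalso
    apply hG
    refine ⟨⟨fun a b => ?_⟩⟩
    have h3 : ⁅a, b⁆ ∈ commutator G := commutator_mem_commutator (mem_top a) (mem_top b)
    rw [h, mem_bot, commutatorElement_eq_one_iff_mul_comm] at h3
    exact h3
  · exact h

theorem qd_congr {A B : Type*} [Group A] [Group B] (h : IsQuasiDihedral A) (e : A ≃* B) : IsQuasiDihedral B := by
  obtain ⟨n, hn, hc, x, y, hx, hy, hxy⟩ := h
  refine ⟨n, hn, by rw [← Nat.card_congr e.toEquiv, hc], e x, e y, by rw [MulEquiv.orderOf_eq, hx],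
    by rw [MulEquiv.orderOf_eq, hy], ?_⟩
  rw [← map_mul, ← map_inv, ← map_mul, hxy, map_pow]

theorem card_le_two {A : Type*} [Finite A] (a b : A) (h : ∀ c, c = a ∨ c = b) : Nat.card A ≤ 2 := by
  rw [← Set.ncard_univ]
  refine (Set.ncard_le_ncard (t := {a, b}) (fun c _ => ?_)).trans
    ((Set.ncard_insert_le _ _).trans (by rw [Set.ncard_singleton]))
  exact h c

theorem two_ne {F : Type*} [Field F] [Fintype F] (h : Odd (Fintype.card F)) : (2 : F) ≠ 0 := by
  intro h2
  obtain ⟨p, hp⟩ := CharP.exists F
  have hpp : p.Prime := (CharP.char_is_prime_or_zero F p).resolve_right (CharP.char_ne_zero_of_finite F p)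
  have h1 : p ∣ 2 := (CharP.cast_eq_zero_iff F p 2).1 (by exact_mod_cast h2)
  have h3 := (Nat.prime_dvd_prime_iff_eq hpp Nat.prime_two).1 h1
  subst h3
  obtain ⟨n, -, hn⟩ := FiniteField.card F 2
  rw [hn] at h
  exact (Nat.not_odd_iff_even.2 ((Nat.even_pow' n.pos.ne').2 even_two)) h

theorem map_centralizer_le {G K : Type*} [Group G] [Group K] {V : Subgroup G} (hC : centralizer (V : Set G) ≤ V)
    (f : G ≃* K) : centralizer (V.map f.toMonoidHom : Set K) ≤ V.map f.toMonoidHom := by
  intro g hg
  obtain ⟨a, rfl⟩ := f.surjective g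
  refine ⟨a, hC ?_, rfl⟩
  rw [mem_centralizer_iff] at hg ⊢
  intro v hv
  apply f.injective
  rw [map_mul, map_mul]
  exact hg (f v) ⟨v, hv, rfl⟩

/-- **simple groups with a self-centralizing four-subgroup and order divisible by 16** -/
theorem klass {G : Type*} [Group G] [Finite G] [IsSimpleGroup G] {V : Subgroup G} (hV : IsKleinFour V)
    (hC : centralizer (V : Set G) ≤ V) (h16 : 16 ∣ Nat.card G) :
    (∃ (F : Type) (_ : Field F) (_ : Fintype F), Odd (Fintype.card F) ∧ 3 < Fintype.card F ∧
      Nonempty (G ≃* Matrix.ProjectiveSpecialLinearGroup (Fin 2) F)) ∨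
    Nonempty (G ≃* Matrix.ProjectiveSpecialLinearGroup (Fin 3) (ZMod 3)) ∨ IsM11 G := by
  have hna : ¬ IsMulCommutative G := by
    intro hc
    have h1 : centralizer (V : Set G) = ⊤ := by
      rw [eq_top_iff]
      intro g _
      rw [mem_centralizer_iff]
      intro v _
      exact hc.is_comm.comm v g
    rw [h1, top_le_iff] at hC
    have h2 := hV.card_four
    rw [hC, card_top] at h2
    omega
  have hp : IsPGroup 2 V := IsPGroup.of_card (n := 2) (by rw [hV.card_four]; norm_num)
  obtain ⟨S, hVS⟩ := hp.exists_le_sylow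
  have hVsq : ∀ v ∈ V, v * v = 1 := fun v hv => S1190.klein_sq hV hv
  have hVcomm : ∀ v ∈ V, ∀ w ∈ V, v * w = w * v := fun v hv w hw => S1190.klein_comm hV hv hw
  have hcase := LieExceptional.CITDihedral.dihedral_or_qd S.isPGroup' (V.subgroupOf S)
    (by rw [Nat.card_congr (subgroupOfEquivOfLe hVS).toEquiv, hV.card_four])
    (fun v hv => Subtype.ext (hVsq v hv))
    (by
      apply le_antisymm
      · intro g hg
        rw [mem_subgroupOf]
        apply hC
        rw [mem_centralizer_iff]
        intro v hv
        exact congrArg Subtype.val (mem_centralizer_iff.1 hg ⟨v, hVS hv⟩ hv)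
      · intro g hg
        rw [mem_centralizer_iff]
        intro v hv
        exact Subtype.ext (hVcomm v hv g hg))
  rcases hcase with ⟨m, hm, hD⟩ | hQ
  · left
    have := perfect hna
    have hodd : oddCore G = ⊥ := by
      have hn : (oddCore G).Normal := Lib.Cores.pPrimeCore_normal 2
      rcases hn.eq_bot_or_eq_top with h | h
      · exact h
      · exfalso
        have h3 : (Nat.card (oddCore G)).Coprime 2 := Lib.Cores.pPrimeCore_coprime 2
        rw [h, Subgroup.card_top] at h3
        have h4 := Nat.Coprime.eq_one_of_dvd h3.symm (Dvd.dvd.trans (by norm_num) h16)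
        omega
    have e : (G ⧸ Cfsg.oddCore G) ≃* G :=
      (QuotientGroup.quotientMulEquivOfEq hodd).trans QuotientGroup.quotientBot
    rcases S0483.result S m hm hD with ⟨F, i1, i2, h1, h2, ⟨f⟩⟩ | ⟨⟨f⟩⟩
    · exact ⟨F, i1, i2, h1, h2, ⟨e.symm.trans f⟩⟩
    · exfalso
      have := Cases.alt_card (n := 7) (by norm_num) (e.symm.trans f)
      rw [show Nat.factorial 7 = 5040 from rfl] at this
      omega
  · right
    rcases S0507.result S hQ with ⟨F, i1, i2, h1, ⟨f⟩⟩ | ⟨F, i1, i2, q, h1, h2, ⟨f⟩⟩ | h
    · left
      let S' := S.mapSurjective (f := f.toMonoidHom) f.surjective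
      have e2 : (S : Subgroup G) ≃* ((S : Subgroup G).map f.toMonoidHom : Subgroup _) := (S : Subgroup G).equivMapOfInjective _ f.injective
      have hV' : IsKleinFour (V.map f.toMonoidHom) :=
        TwoFusion.DihedralFour.isKleinFour_map _ f.injective _ hV
      have hC' := map_centralizer_le hC f
      have h3 : ∀ c : Fˣ, c = 1 ∨ c = -1 := Qd.psl3 (two_ne (Nat.odd_iff.2 (by omega))) S' (qd_congr hQ e2) hV' hC'
      have h4 := card_le_two _ _ h3
      rw [Elts.card_units_eq] at h4
      have h5 : Fintype.card F = 3 := by omega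
      have : Fact (Nat.Prime 3) := ⟨Nat.prime_three⟩
      exact ⟨f.trans (LieClassical.FieldTransfer.pslCongr (ZMod.ringEquivOfPrime F Nat.prime_three h5).symm)⟩
    · exfalso
      let S' := S.mapSurjective (f := f.toMonoidHom) f.surjective
      have e2 : (S : Subgroup G) ≃* ((S : Subgroup G).map f.toMonoidHom : Subgroup _) := (S : Subgroup G).equivMapOfInjective _ f.injective
      have hV' : IsKleinFour (V.map f.toMonoidHom) :=
        TwoFusion.DihedralFour.isKleinFour_map _ f.injective _ hV
      have hC' := map_centralizer_le hC f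
      have ho : Odd q := Nat.odd_iff.2 (by omega)
      have h3 := Qd.psu3 h1 ho (two_ne (by rw [h1]; exact ho.pow)) S' (qd_congr hQ e2) hV' hC'
      have h4 : Nat.card ↥(Elts.NO F q) ≤ 2 := by
        refine card_le_two 1 ⟨-1, ?_⟩ fun c => ?_
        · rw [MonoidHom.mem_ker, powMonoidHom_apply]
          exact Even.neg_one_pow (ho.add_odd odd_one)
        · rcases h3 c with h | h
          · left
            exact Subtype.ext (Units.ext h)
          · right
            exact Subtype.ext (Units.ext h)
      rw [Elts.card_NO h1] at h4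
      have hq : 1 < q := by
        have : 1 < Fintype.card F := Fintype.one_lt_card
        rw [h1] at this
        by_contra hlt
        have : q ≤ 1 := by omega
        nlinarith
      omega
    · exact Or.inr h

end Cfsg.Agent.H435.P3.Klass
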