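import Cfsg.Agent.H435.P3.Base
import Cfsg.Agent.S1190
import Cfsg.Agent.S0204
import Cfsg.Agent.S0205
import Cfsg.Agent.TwoFusion.DihedralFusion

/-!
# Fixed points of 2-groups (helper435)
-/

set_option autoImplicit false

namespace Cfsg.Agent.H435.P3.Fix

open Cfsg Cfsg.Agent.H435 Cfsg.Agent.H435.P3 Cfsg.Agent.H435.P3.Base Subgroup
open Cfsg.Agent.Lib.MinNormalNonabelian (minSet map_conj_mem_minSet nonabelian_structure)

variable {G : Type*} [Group G] [Finite G]

theorem odd_of_fix {N V : Subgroup G} (hVN : V ≤ normalizer (N : Set G)) (hV : IsPGroup 2 V)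
    (h : ∀ x ∈ N, (∀ v ∈ V, v * x = x * v) → x = 1) : Odd (Nat.card N) := by
  have : Fact (Nat.Prime 2) := ⟨Nat.prime_two⟩
  let f : V →* MulAut N := N.normalizerMonoidHom.comp (inclusion hVN)
  have hf : ∀ (v : V) (n : N), ((f v n : N) : G) = v * n * (v : G)⁻¹ := fun v n => rfl
  let _ : MulAction V N := MulAction.compHom N f
  have hact : ∀ (v : V) (n : N), v • n = f v n := fun v n => rfl
  have h1 := hV.card_modEq_card_fixedPoints N
  have h2 : MulAction.fixedPoints V N = {1} := by
    ext n
    rw [MulAction.mem_fixedPoints, Set.mem_singleton_iff]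
    constructor
    · intro hn
      apply Subtype.ext
      apply h n n.2
      intro v hv
      have h3 := congrArg Subtype.val (hn ⟨v, hv⟩)
      rw [hact, hf] at h3
      exact mul_inv_eq_iff_eq_mul.1 h3
    · rintro rfl v
      rw [hact, map_one]
  rw [h2, Nat.card_coe_set_eq, Set.ncard_singleton] at h1
  rw [Nat.odd_iff]
  exact h1

/-- a 2-group acting on a group of even order centralizes an involution -/
theorem exists_fix {N V : Subgroup G} (hVN : V ≤ normalizer (N : Set G)) (hV : IsPGroup 2 V)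
    (h : 2 ∣ Nat.card N) : ∃ x ∈ N, x ≠ 1 ∧ ∀ v ∈ V, v * x = x * v := by
  by_contra hcon
  push Not at hcon
  have h1 := odd_of_fix hVN hV (fun x hx hv => by
    by_contra hx1
    obtain ⟨v, hv', hne⟩ := hcon x hx hx1
    exact hne (hv v hv'))
  rw [Nat.odd_iff] at h1
  omega

omit [Finite G] in
/-- a Klein four-group is a 2-group -/
theorem isPGroup_of_klein {V : Subgroup G} (hV : IsKleinFour V) : IsPGroup 2 V :=
  IsPGroup.of_card (n := 2) (by rw [hV.card_four]; norm_num)

theorem even_of_simple {T : Type*} [Group T] [Finite T] [IsSimpleGroup T] (h : ∃ a b : T, a * b ≠ b * a) :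
    4 ∣ Nat.card T := by
  have hc : ¬ IsCyclic T := by
    intro hc
    obtain ⟨a, b, hab⟩ := h
    exact hab ((IsCyclic.isMulCommutative (α := T)).is_comm.comm a b)
  obtain ⟨E, hE⟩ := S0204.result hc
  rw [← hE.card_four]
  exact card_subgroup_dvd_card E

/-- a Klein four-group is generated by two of its involutions -/
theorem eq_fourGroup {V : Subgroup G} (hV : IsKleinFour V) {x y : G} (hx : x ∈ V) (hy : y ∈ V) (hx1 : x ≠ 1)
    (hy1 : y ≠ 1) (hxy : x ≠ y) : ∀ a ∈ V, a = 1 ∨ a = x ∨ a = y ∨ a = x * y := by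
  have hxx := S1190.klein_sq hV hx
  have hyy := S1190.klein_sq hV hy
  have hc := S1190.klein_comm hV hx hy
  have hK := TwoFusion.DihedralFusion.isKleinFour_fourGroup hxx hyy hc hx1 hy1 hxy
  have h1 : TwoFusion.DihedralFusion.fourGroup x y hxx hyy hc = V := by
    apply eq_of_le_of_card_ge (TwoFusion.DihedralFusion.fourGroup_le hxx hyy hc hx hy)
    rw [hK.card_four, hV.card_four]
  intro a ha
  rw [← h1] at ha
  exact TwoFusion.DihedralFusion.mem_fourGroup.1 ha

theorem simple_of_four {N V : Subgroup G} [N.Normal]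
    (hmin : ∀ M : Subgroup G, M.Normal → M ≤ N → M = ⊥ ∨ M = N)
    (hna : ¬ ∀ x ∈ N, ∀ y ∈ N, Commute x y) (hV : IsKleinFour V) (hVN : V ≤ N)
    (hC : ∀ x ∈ N, (∀ v ∈ V, v * x = x * v) → x ∈ V) : IsSimpleGroup N := by
  obtain ⟨⟨T, hT⟩, hind, hsup, hsimp, hZ, -⟩ := nonabelian_structure N hmin hna
  by_cases hone : ∀ U ∈ minSet N, U = T
  · have h1 : N = T := by
      rw [← hsup]
      apply le_antisymm
      · exact sSup_le fun U hU => (hone U hU).le
      · exact le_sSup hT
    rw [h1]
    exact hsimp T hT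
  · exfalso
    push Not at hone
    obtain ⟨U, hU, hUT⟩ := hone
    have key : ∀ A ∈ minSet N, 4 ∣ Nat.card A := by
      intro A hA
      have := hsimp A hA
      apply even_of_simple
      by_contra hcon
      push Not at hcon
      obtain ⟨z, hz⟩ := exists_ne (1 : A)
      apply hz
      apply Subtype.ext
      apply hZ A hA z z.2
      intro s hs
      exact congrArg Subtype.val (hcon z ⟨s, hs⟩)
    have hp := isPGroup_of_klein hV
    obtain ⟨x, hxT, hx1, hxV⟩ := exists_fix (hVN.trans hT.2.2.1) hp (Dvd.dvd.trans (by norm_num) (key T hT))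
    obtain ⟨y, hyU, hy1, hyV⟩ := exists_fix (hVN.trans hU.2.2.1) hp (Dvd.dvd.trans (by norm_num) (key U hU))
    have hx := hC x (hT.1 hxT) hxV
    have hy := hC y (hU.1 hyU) hyV
    have hdis : ∀ a ∈ T, ∀ b ∈ U, Commute a b := commute_of_minSet hmin hna hT hU (Ne.symm hUT)
    have hinf : ∀ a ∈ T, a ∈ U → a = 1 := fun a ha hb => hZ T hT a ha fun s hs => (hdis s hs a hb).symm
    have hxy : x ≠ y := by
      rintro rfl
      exact hx1 (hinf x hxT hyU)
    -- `V = {1, x, y, x y}`
    have hVeq : ∀ a ∈ V, a = 1 ∨ a = x ∨ a = y ∨ a = x * y := eq_fourGroup hV hx hy hx1 hy1 hxy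
    -- a subgroup of order 4 of `T` containing `x`
    have : Fact (Nat.Prime 2) := ⟨Nat.prime_two⟩
    have hxx : x * x = 1 := S1190.klein_sq hV hx
    have hxo : orderOf (⟨x, hxT⟩ : T) = 2 := by
      apply orderOf_eq_prime
      · apply Subtype.ext
        change x ^ 2 = 1
        rw [pow_two, hxx]
      · intro h
        exact hx1 (congrArg Subtype.val h)
    obtain ⟨K, hK, hxK⟩ := Sylow.exists_subgroup_card_pow_succ (p := 2) (n := 1) (G := T)
      (by simpa using key T hT) (H := zpowers (⟨x, hxT⟩ : T)) (by rw [Nat.card_zpowers, hxo, pow_one])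
    have hK' : Nat.card K = 2 ^ 2 := hK
    have hcomm : ∀ a b : K, a * b = b * a := (IsPGroup.isMulCommutative_of_card_eq_prime_sq hK').is_comm.comm
    have hxK' : (⟨x, hxT⟩ : T) ∈ K := hxK (mem_zpowers _)
    -- `K` centralizes `V`
    have hKV : ∀ k ∈ K, ∀ a ∈ V, a * (k : G) = (k : G) * a := by
      intro k hk a ha
      have hkx : x * (k : G) = (k : G) * x :=
        congrArg (fun z : K => ((z : T) : G)) (hcomm ⟨_, hxK'⟩ ⟨k, hk⟩)
      have hky : y * (k : G) = (k : G) * y := ((hdis k k.2 y hyU).eq).symm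
      rcases hVeq a ha with rfl | rfl | rfl | rfl
      · rw [one_mul, mul_one]
      · exact hkx
      · exact hky
      · rw [mul_assoc, hky, ← mul_assoc, hkx, mul_assoc]
    have hKle : ∀ k ∈ K, (k : G) = 1 ∨ (k : G) = x := by
      intro k hk
      have h1 := hC k (hT.1 k.2) (fun a ha => hKV k hk a ha)
      rcases hVeq _ h1 with h | h | h | h
      · exact Or.inl h
      · exact Or.inr h
      · exact Or.inl (hinf _ k.2 (by rw [h]; exact hyU))
      · exfalso
        have h2 : y = x⁻¹ * k := by rw [h]; group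
        have h3 : y ∈ T := by rw [h2]; exact T.mul_mem (T.inv_mem hxT) k.2
        exact hy1 (hinf y h3 hyU)
    have hcardK : Nat.card K ≤ 2 := by
      have h1 : ∀ k : K, k = 1 ∨ k = ⟨⟨x, hxT⟩, hxK'⟩ := fun k => by
        rcases hKle k k.2 with h | h
        · exact Or.inl (Subtype.ext (Subtype.ext h))
        · exact Or.inr (Subtype.ext (Subtype.ext h))
      rw [← Set.ncard_univ]
      refine (Set.ncard_le_ncard (t := {1, ⟨⟨x, hxT⟩, hxK'⟩}) (fun c _ => h1 c)).trans
        ((Set.ncard_insert_le _ _).trans (by rw [Set.ncard_singleton]))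
    rw [hK'] at hcardK
    norm_num at hcardK

omit [Finite G] in
/-- an element of order 2 in the quotient `N(B)/B` -/
theorem two_mul_card_dvd {B : Subgroup G} {n : G} (hn : n ∈ normalizer (B : Set G)) (hnB : n ∉ B) (hnn : n * n ∈ B) :
    2 * Nat.card B ∣ Nat.card G := by
  have h1 : 2 ∣ B.relIndex (normalizer (B : Set G)) := by
    have h2 : orderOf (QuotientGroup.mk (⟨n, hn⟩ : normalizer (B : Set G)) :
        normalizer (B : Set G) ⧸ B.subgroupOf (normalizer (B : Set G))) = 2 := by
      apply orderOf_eq_prime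
      · rw [← QuotientGroup.mk_pow, QuotientGroup.eq_one_iff, mem_subgroupOf, pow_two]
        exact hnn
      · intro h
        rw [QuotientGroup.eq_one_iff, mem_subgroupOf] at h
        exact hnB h
    rw [← h2]
    exact _root_.orderOf_dvd_natCard _
  have h3 : Nat.card B * B.relIndex (normalizer (B : Set G)) = Nat.card (normalizer (B : Set G)) := by
    have h4 := card_mul_index (B.subgroupOf (normalizer (B : Set G)))
    rw [Nat.card_congr (subgroupOfEquivOfLe le_normalizer).toEquiv] at h4
    exact h4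
  obtain ⟨k, hk⟩ := h1
  refine Dvd.dvd.trans ⟨k, ?_⟩ (card_subgroup_dvd_card (normalizer (B : Set G)))
  rw [← h3, hk]
  ring

/-- a subgroup of index two is normalized -/
theorem le_normalizer_of_card {A K : Subgroup G} (hAK : A ≤ K) (h : Nat.card K = 2 * Nat.card A) :
    K ≤ normalizer (A : Set G) := by
  have h1 := card_mul_index (A.subgroupOf K)
  rw [Nat.card_congr (subgroupOfEquivOfLe hAK).toEquiv, h, mul_comm 2] at h1
  have h2 : (A.subgroupOf K).index = 2 := Nat.eq_of_mul_eq_mul_left Nat.card_pos h1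
  exact (normal_subgroupOf_iff_le_normalizer hAK).1 (normal_of_index_eq_two h2)

end Cfsg.Agent.H435.P3.Fix
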